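import Cfsg.Agent.H615.GU.Grp
import Cfsg.Agent.H166.GUC.Mcol
import Mathlib.LinearAlgebra.Eigenspace.Zero
import Mathlib.LinearAlgebra.Matrix.Charpoly.Eigs

/-!
# S4537: the determinant and the `p`-regularity of an element in terms of its type (helper697)

`lam (mk x) = mcol g x` for all units `x` of `K`, where all monic polynomials of degree at most `n` split over `K`.
* `algebraMap_det` : `algebraMap F K (det g) = detT Q lam`; `linT_eq`;
* `pow_dvd_orderOf_iff` : `p ^ k ∣ orderOf g ↔ ∃ x, lam (mk x) ≠ 0 ∧ p ^ k ∣ orderOf x` for `k > 0`, `p` not the characteristic;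
* `preg_iff` : `(orderOf g).Coprime p ↔ PregT Q p lam`.
-/

set_option autoImplicit false

open Module Polynomial
open scoped MatrixGroups

namespace Cfsg.Agent.H697.GW

open Cfsg.Agent.H615.GU Cfsg.Agent.H166.GUC

universe u v

section

variable {F : Type u} [Field F] {K : Type v} [Field K] [Algebra F K] {n : ℕ}

/-- the sum of the columns is the algebraic multiplicity -/
theorem size_mcol (A : Matrix (Fin n) (Fin n) F) (x : K) :
    (mcol A x).size = (A.map (algebraMap F K)).charpoly.rootMultiplicity x := by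
  set T : Matrix (Fin n) (Fin n) K := A.map (algebraMap F K) - Matrix.scalar (Fin n) x with hT
  have h1 : ∀ j : ℕ, ∑ i ∈ Finset.range j, mcol A x i = finrank K (LinearMap.ker (Matrix.toLin' T ^ j)) := by
    intro j
    induction j with
    | zero =>
      rw [Finset.sum_range_zero, pow_zero]
      have h : LinearMap.ker (1 : End K (Fin n → K)) = ⊥ := LinearMap.ker_id
      rw [h, finrank_bot]
    | succ j ih =>
      rw [Finset.sum_range_succ, ih, add_comm]
      exact colOf_add _ j
  have h2 : Matrix.toLin' T = Matrix.toLin' (A.map (algebraMap F K)) - x • (1 : End K (Fin n → K)) := by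
    rw [hT, map_sub]
    congr 1
    refine LinearMap.ext fun v => ?_
    rw [Matrix.toLin'_apply, Matrix.scalar_apply, ← Matrix.smul_one_eq_diagonal, Matrix.smul_mulVec,
      Matrix.one_mulVec]
    rfl
  have h3 : (A.map (algebraMap F K)).charpoly = (Matrix.toLin' (A.map (algebraMap F K))).charpoly := by
    rw [← LinearMap.charpoly_toMatrix (Matrix.toLin' (A.map (algebraMap F K))) (Pi.basisFun K (Fin n)),
      LinearMap.toMatrix_eq_toMatrix', LinearMap.toMatrix'_toLin']
  rw [h3, ← LinearMap.finrank_maxGenEigenspace_eq]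
  -- the generalized eigenspace
  set f : End K (Fin n → K) := Matrix.toLin' (A.map (algebraMap F K)) with hf
  have h4 : f.maxGenEigenspace x = LinearMap.ker (Matrix.toLin' T ^ max (mcol A x).size n) := by
    rw [h2, ← Module.End.genEigenspace_nat]
    have h5 : f.maxGenEigenspace x = f.genEigenspace x (finrank K (Fin n → K)) :=
      Module.End.maxGenEigenspace_eq_genEigenspace_finrank f x
    refine le_antisymm ?_ (f.genEigenspace_le_maximal x _)
    rw [h5, finrank_fin_fun]
    exact (f.genEigenspace x).mono (by exact_mod_cast le_max_right _ _)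
  rw [h4, ← h1]
  exact Col.size_eq_sum_range (le_max_left _ _)

theorem col_eq_zero_iff {l : Col} : l = 0 ↔ l.size = 0 := by
  constructor
  · rintro rfl
    exact Col.size_zero
  · intro h
    ext i
    exact Nat.le_zero.1 ((l.apply_le_size i).trans_eq h)

/-- eigenvalues -/
theorem mcol_ne_zero_iff (A : Matrix (Fin n) (Fin n) F) (x : K) :
    mcol A x ≠ 0 ↔ (A.map (algebraMap F K)).charpoly.IsRoot x := by
  rw [Ne, col_eq_zero_iff, size_mcol, Polynomial.rootMultiplicity_eq_zero_iff]
  push Not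
  exact ⟨fun h => h.1, fun h => ⟨h, (Matrix.charpoly_monic _).ne_zero⟩⟩

variable (hs : ∀ h : F[X], h.Monic → h.natDegree ≤ n → (h.map (algebraMap F K)).Splits)

include hs in
theorem splits_charpoly (A : Matrix (Fin n) (Fin n) F) : (A.map (algebraMap F K)).charpoly.Splits := by
  rw [Matrix.charpoly_map]
  exact hs _ (Matrix.charpoly_monic A) (by rw [Matrix.charpoly_natDegree_eq_dim, Fintype.card_fin])

theorem eval_ne_zero (g : GL (Fin n) F) : ¬ (g.1.map (algebraMap F K)).charpoly.IsRoot 0 := by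
  intro h
  rw [← Matrix.mem_spectrum_iff_isRoot_charpoly, spectrum.zero_mem_iff] at h
  apply h
  have h1 := g.isUnit.map (algebraMap F K).mapMatrix
  exact h1

variable {Q : ℤ} {lam : Ty (Orb K Q)} {g : GL (Fin n) F}

include hs in
/-- the determinant is the product of the eigenvalues of the type -/
theorem algebraMap_det [Finite K] (h : ∀ x : Kˣ, lam (Quotient.mk (orbSetoid K Q) x) = mcol g.1 (x : K)) :
    algebraMap F K (g.1.det) = ((detT Q lam : Kˣ) : K) := by
  classical
  have := Fintype.ofFinite K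
  have hOf : Fintype (Orb K Q) := Fintype.ofFinite _
  have h1 : algebraMap F K g.1.det = (g.1.map (algebraMap F K)).charpoly.roots.prod := by
    rw [← Matrix.det_eq_prod_roots_charpoly_of_splits (splits_charpoly hs g.1), RingHom.map_det,
      RingHom.mapMatrix_apply]
  rw [h1, Finset.prod_multiset_count]
  -- the product over the units
  have h2 : ∏ x ∈ (g.1.map (algebraMap F K)).charpoly.roots.toFinset,
      x ^ (g.1.map (algebraMap F K)).charpoly.roots.count x =
      ∏ x : Kˣ, (x : K) ^ (lam (Quotient.mk (orbSetoid K Q) x)).size := by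
    have h3 : ∀ x : Kˣ, (lam (Quotient.mk (orbSetoid K Q) x)).size =
        (g.1.map (algebraMap F K)).charpoly.roots.count (x : K) := by
      intro x
      rw [h, size_mcol, Polynomial.count_roots]
    have h4 : (g.1.map (algebraMap F K)).charpoly.roots.toFinset ⊆
        (Finset.univ : Finset Kˣ).map ⟨Units.val, Units.val_injective⟩ := by
      intro x hx
      rw [Multiset.mem_toFinset] at hx
      have hx0 : x ≠ 0 := by
        rintro rfl
        exact eval_ne_zero g (Polynomial.isRoot_of_mem_roots hx)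
      exact Finset.mem_map.2 ⟨Units.mk0 x hx0, Finset.mem_univ _, rfl⟩
    rw [Finset.prod_subset h4 fun x _ hx => by
      rw [Multiset.mem_toFinset] at hx
      rw [Multiset.count_eq_zero_of_notMem hx, pow_zero], Finset.prod_map]
    refine Finset.prod_congr rfl fun x _ => ?_
    rw [h3 x]
    rfl
  rw [h2, detT, finprod_eq_prod_of_fintype, Units.coe_prod,
    ← Finset.prod_fiberwise Finset.univ (fun x : Kˣ => (Quotient.mk (orbSetoid K Q) x))]
  refine Finset.prod_congr rfl fun o _ => ?_
  rw [finprod_eq_prod_of_fintype, Units.val_pow_eq_pow_val, Units.coe_prod, ← Finset.prod_pow]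
  symm
  refine Finset.prod_bij (fun x _ => (x : Kˣ)) ?_ ?_ ?_ ?_
  · intro x _
    exact Finset.mem_filter.2 ⟨Finset.mem_univ _, x.2⟩
  · intro x _ y _ hxy
    exact Subtype.ext hxy
  · intro x hx
    exact ⟨⟨x, (Finset.mem_filter.1 hx).2⟩, Finset.mem_univ _, rfl⟩
  · intro x _
    rw [x.2]

include hs in
theorem linT_eq [Finite K] (θ : K →*₀ ℂ) (M : ℕ) (a : ZMod M)
    (h : ∀ x : Kˣ, lam (Quotient.mk (orbSetoid K Q) x) = mcol g.1 (x : K)) :
    linT θ Q M a lam = θ (algebraMap F K g.1.det) ^ expoZ Q M 1 a := by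
  rw [linT, algebraMap_det hs h]

theorem pow_dvd_lcm {p k a b : ℕ} (hp : p.Prime) (ha : a ≠ 0) (hb : b ≠ 0) (h : p ^ k ∣ Nat.lcm a b) :
    p ^ k ∣ a ∨ p ^ k ∣ b := by
  rw [hp.pow_dvd_iff_le_factorization (Nat.lcm_ne_zero ha hb), Nat.factorization_lcm ha hb, Finsupp.sup_apply,
    le_sup_iff] at h
  rwa [hp.pow_dvd_iff_le_factorization ha, hp.pow_dvd_iff_le_factorization hb]

/-- the order of an eigenvalue divides the order -/
theorem orderOf_dvd_of_eigenvalue {x : Kˣ} (hx : mcol g.1 (x : K) ≠ 0) : orderOf x ∣ orderOf g := by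
  rw [mcol_ne_zero_iff, ← Matrix.mem_spectrum_iff_isRoot_charpoly] at hx
  apply orderOf_dvd_of_pow_eq_one
  have h1 : (x : K) ^ orderOf g ∈ spectrum K ((g.1.map (algebraMap F K)) ^ orderOf g) :=
    spectrum.pow_mem_pow _ _ hx
  have h2 : (g.1.map (algebraMap F K)) ^ orderOf g = 1 := by
    have h3 : (algebraMap F K).mapMatrix (g.1 ^ orderOf g) = (g.1.map (algebraMap F K)) ^ orderOf g := by
      rw [map_pow]
      rfl
    rw [← h3, ← Units.val_pow_eq_pow_val, pow_orderOf_eq_one, Units.val_one, map_one]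
  rw [h2] at h1
  have h4 : (1 : Matrix (Fin n) (Fin n) K) = algebraMap K _ 1 := (map_one _).symm
  by_cases hn : Nonempty (Fin n)
  · rw [h4, spectrum.scalar_eq] at h1
    exact Units.ext (by rw [Units.val_pow_eq_pow_val]; exact h1)
  · have hne : IsEmpty (Fin n) := not_nonempty_iff.1 hn
    have hsub : Subsingleton (Matrix (Fin n) (Fin n) K) := ⟨fun a b => by ext i; exact hne.elim i⟩
    rw [spectrum.of_subsingleton] at h1
    exact absurd h1 (Set.notMem_empty _)

include hs in
/-- if `N` is a multiple of the orders of the eigenvalues then `g ^ N` is unipotent -/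
theorem orderOf_dvd_mul [Finite K] (r : ℕ) [Fact r.Prime] [CharP F r] {N : ℕ}
    (hN : ∀ x : Kˣ, mcol g.1 (x : K) ≠ 0 → x ^ N = 1) : ∃ s : ℕ, orderOf g ∣ N * r ^ s := by
  classical
  have h1 : (g.1.map (algebraMap F K)).charpoly ∣ (X ^ N - 1) ^ n := by
    have hsp := (splits_charpoly (K := K) hs g.1).eq_prod_roots
    rw [(Matrix.charpoly_monic _).leadingCoeff, map_one, one_mul] at hsp
    have hcard : Multiset.card (g.1.map (algebraMap F K)).charpoly.roots = n := by
      rw [← (splits_charpoly (K := K) hs g.1).natDegree_eq_card_roots, Matrix.charpoly_natDegree_eq_dim,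
        Fintype.card_fin]
    have h2 : ∀ s : Multiset K, (∀ y ∈ s, y ^ N = 1) →
        (s.map fun a => X - C a).prod ∣ (X ^ N - 1 : K[X]) ^ Multiset.card s := by
      intro s
      induction s using Multiset.induction_on with
      | empty => intro _; simp
      | cons a s ih =>
        intro ha
        rw [Multiset.map_cons, Multiset.prod_cons, Multiset.card_cons, pow_succ']
        refine mul_dvd_mul ?_ (ih fun y hy => ha y (Multiset.mem_cons_of_mem hy))
        rw [Polynomial.dvd_iff_isRoot, Polynomial.IsRoot.def, eval_sub, eval_pow, eval_X, eval_one,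
          ha a (Multiset.mem_cons_self a s), sub_self]
    rw [hsp]
    conv_rhs => rw [← hcard]
    refine h2 _ fun y hy => ?_
    have hroot := Polynomial.isRoot_of_mem_roots hy
    have hy0 : y ≠ 0 := by
      rintro rfl
      exact eval_ne_zero g hroot
    have h3 := hN (Units.mk0 y hy0) ((mcol_ne_zero_iff g.1 y).2 hroot)
    have h4 := congrArg Units.val h3
    rwa [Units.val_pow_eq_pow_val] at h4
  have h2 : (g.1.map (algebraMap F K) ^ N - 1) ^ n = 0 := by
    obtain ⟨c, hc⟩ := h1
    have h3 := congrArg (aeval (g.1.map (algebraMap F K))) hc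
    rw [map_mul, Matrix.aeval_self_charpoly, zero_mul, map_pow, map_sub, map_pow, aeval_X, map_one] at h3
    exact h3
  have h3 : (g.1 ^ N - 1) ^ n = 0 := by
    have hinj : Function.Injective ((algebraMap F K).mapMatrix (m := Fin n)) := by
      intro a b hab
      ext i j
      have h4 := congrFun (congrFun hab i) j
      exact (algebraMap F K).injective h4
    apply hinj
    rw [map_pow, map_sub, map_pow, map_one, map_zero]
    exact h2
  obtain ⟨s, hs'⟩ : ∃ s : ℕ, n ≤ r ^ s := ⟨n, (Nat.lt_pow_self (Fact.out : r.Prime).one_lt).le⟩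
  refine ⟨s, orderOf_dvd_of_pow_eq_one (Units.ext ?_)⟩
  rw [Units.val_pow_eq_pow_val, Units.val_one, pow_mul]
  by_cases hn : Nonempty (Fin n)
  · have hch : CharP (Matrix (Fin n) (Fin n) F) r := inferInstance
    have h4 : (g.1 ^ N - 1) ^ r ^ s = 0 := pow_eq_zero_of_le hs' h3
    rw [sub_pow_char_pow_of_commute _ _ (Commute.one_right _), one_pow, sub_eq_zero] at h4
    exact h4
  · have hne : IsEmpty (Fin n) := not_nonempty_iff.1 hn
    ext i
    exact hne.elim i

include hs in
/-- the `p`-part of the order -/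
theorem pow_dvd_orderOf_iff [Finite F] [Finite K] {p : ℕ} (hp : p.Prime) (hpF : (p : F) ≠ 0)
    (h : ∀ x : Kˣ, lam (Quotient.mk (orbSetoid K Q) x) = mcol g.1 (x : K)) {k : ℕ} (hk : 0 < k) :
    p ^ k ∣ orderOf g ↔ ∃ x : Kˣ, lam (Quotient.mk (orbSetoid K Q) x) ≠ 0 ∧ p ^ k ∣ orderOf x := by
  classical
  have := Fintype.ofFinite K
  constructor
  · intro hd
    obtain ⟨r, hr⟩ := CharP.exists F
    have hrp : r.Prime := (CharP.char_is_prime_or_zero F r).resolve_right
      (CharP.char_ne_zero_of_finite F r)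
    have := Fact.mk hrp
    set S : Finset Kˣ := Finset.univ.filter fun x => mcol g.1 (x : K) ≠ 0 with hS
    obtain ⟨s, hs'⟩ := orderOf_dvd_mul (g := g) (K := K) hs r (N := S.lcm orderOf) (by
      intro x hx
      exact orderOf_dvd_iff_pow_eq_one.1 (Finset.dvd_lcm (Finset.mem_filter.2 ⟨Finset.mem_univ _, hx⟩)))
    have hcop : (p ^ k).Coprime (r ^ s) := by
      refine Nat.Coprime.pow _ _ ((Nat.coprime_primes hp hrp).2 ?_)
      rintro rfl
      exact hpF (CharP.cast_eq_zero F p)
    have h1 : p ^ k ∣ S.lcm orderOf := hcop.dvd_of_dvd_mul_right (hd.trans hs')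
    have h2 : ∀ S : Finset Kˣ, p ^ k ∣ S.lcm orderOf → ∃ x ∈ S, p ^ k ∣ orderOf x := by
      intro S
      induction S using Finset.induction_on with
      | empty =>
        intro h3
        rw [Finset.lcm_empty] at h3
        have h4 := Nat.dvd_one.1 h3
        exact absurd h4 (Nat.one_lt_pow hk.ne' hp.one_lt).ne'
      | insert a S _ ih =>
        intro h3
        rw [Finset.lcm_insert] at h3
        have h4 : p ^ k ∣ Nat.lcm (orderOf a) (S.lcm orderOf) := h3
        have h5 : S.lcm orderOf ≠ 0 := by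
          rw [Ne, Finset.lcm_eq_zero_iff]
          rintro ⟨x, -, hx⟩
          exact (orderOf_pos x).ne' hx
        rcases pow_dvd_lcm hp (orderOf_pos a).ne' h5 h4 with h4 | h4
        · exact ⟨a, Finset.mem_insert_self _ _, h4⟩
        · obtain ⟨x, hx, hx'⟩ := ih h4
          exact ⟨x, Finset.mem_insert_of_mem hx, hx'⟩
    obtain ⟨x, hx, hx'⟩ := h2 S h1
    refine ⟨x, ?_, hx'⟩
    rw [h]
    exact (Finset.mem_filter.1 hx).2
  · rintro ⟨x, hx, hx'⟩
    rw [h] at hx
    exact hx'.trans (orderOf_dvd_of_eigenvalue hx)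

include hs in
/-- `p`-regularity -/
theorem preg_iff [Finite F] [Finite K] {p : ℕ} (hp : p.Prime) (hpF : (p : F) ≠ 0)
    (h : ∀ x : Kˣ, lam (Quotient.mk (orbSetoid K Q) x) = mcol g.1 (x : K)) :
    (orderOf g).Coprime p ↔ PregT Q p lam := by
  have h1 := pow_dvd_orderOf_iff hs hp hpF h (k := 1) one_pos
  rw [pow_one] at h1
  rw [Nat.coprime_comm, hp.coprime_iff_not_dvd, h1]
  push Not
  refine forall_congr' fun x => imp_congr_right fun _ => ?_
  rw [Nat.coprime_comm, hp.coprime_iff_not_dvd]

end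

section GU

variable {F : Type u} [Field F] {K : Type v} [Field K] [Finite K] [Algebra F K] {q n : ℕ}
  (hs : ∀ h : F[X], h.Monic → h.natDegree ≤ n → (h.map (algebraMap F K)).Splits)
  {T : TypeData (dOrb K (-(q : ℤ))) (-(q : ℤ)) (Cfsg.GU n F q) n} (hT : IsTypU q n T)

include hs hT

theorem algebraMap_det_GU (g : Cfsg.GU n F q) :
    algebraMap F K (Matrix.det ((g : GL (Fin n) F) : Matrix (Fin n) (Fin n) F)) =
      ((detT (-(q : ℤ)) (T.typ g) : Kˣ) : K) :=
  algebraMap_det hs (g := (g : GL (Fin n) F)) (hT g)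

theorem linT_eq_GU (θ : K →*₀ ℂ) (M : ℕ) (a : ZMod M) (g : Cfsg.GU n F q) :
    linT θ (-(q : ℤ)) M a (T.typ g) =
      θ (algebraMap F K (Matrix.det ((g : GL (Fin n) F) : Matrix (Fin n) (Fin n) F))) ^ expoZ (-(q : ℤ)) M 1 a :=
  linT_eq hs θ M a (g := (g : GL (Fin n) F)) (hT g)

theorem pow_dvd_orderOf_iff_GU [Finite F] {p : ℕ} (hp : p.Prime) (hpF : (p : F) ≠ 0) (g : Cfsg.GU n F q) {k : ℕ}
    (hk : 0 < k) :
    p ^ k ∣ orderOf g ↔ ∃ x : Kˣ, T.typ g (Quotient.mk (orbSetoid K (-(q : ℤ))) x) ≠ 0 ∧ p ^ k ∣ orderOf x := by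
  rw [← Subgroup.orderOf_coe]
  exact pow_dvd_orderOf_iff hs hp hpF (g := (g : GL (Fin n) F)) (hT g) hk

theorem preg_iff_GU [Finite F] {p : ℕ} (hp : p.Prime) (hpF : (p : F) ≠ 0) (g : Cfsg.GU n F q) :
    (orderOf g).Coprime p ↔ PregT (-(q : ℤ)) p (T.typ g) := by
  rw [← Subgroup.orderOf_coe]
  exact preg_iff hs hp hpF (g := (g : GL (Fin n) F)) (hT g)

end GU

end Cfsg.Agent.H697.GW
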